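import Groth.Agent.ProjUPLib.Gen
import Groth.Agent.DCohBridge.StalkExact
import Groth.Agent.GenLocus.Ops
import Groth.Agent.TensorMod.Invertible
import Groth.Prelude.Def_Curv2

/-!
# Ampleness from globally generated modules with affine loci
-/

set_option autoImplicit false
set_option backward.isDefEq.respectTransparency false
set_option backward.isDefEq.respectTransparency.types false
set_option linter.style.haveILetI false

noncomputable section

universe u

open CategoryTheory CategoryTheory.Limits AlgebraicGeometry Opposite TopologicalSpace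
open Groth.Agent.QCohBase Groth.Agent.GenLocus

namespace Groth.Agent.AmpleGG

variable {X : Scheme.{u}}

/-- A globally generated module is generated by global sections. -/
theorem exists_generatedBy {M : X.Modules} (h : Curv2.IsGloballyGenerated M) :
    ∃ (ι : Type u) (s : ι → Γ(M, ⊤)), ProjUP.GeneratedBy M s := by
  obtain ⟨ι, p, hp⟩ := h
  haveI : Epi p := hp
  let σ : ι → (Coh.structureModule X ⟶ M) := fun i => SheafOfModules.ιFree i ≫ p
  refine ⟨ι, fun i => sect (σ i) ⊤, fun x => ?_⟩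
  let F := DerSch.stalkFunctor X x
  let N := Submodule.span (X.presheaf.stalk x)
    (Set.range fun i => (M.presheaf.germ ⊤ x trivial).hom (sect (σ i) ⊤))
  let q : F.obj M ⟶ ModuleCat.of (X.presheaf.stalk x) ((M.presheaf.stalk x) ⧸ N) := ModuleCat.ofHom N.mkQ
  have hσ : ∀ i, F.map (σ i) ≫ q = 0 := fun i => by
    refine ModuleCat.hom_ext (LinearMap.ext fun z => ?_)
    obtain ⟨U, hxU, r, rfl⟩ := TopCat.Presheaf.exists_germ_eq (C := AddCommGrpCat.{u})
      (Coh.structureModule X).presheaf (x := x) z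
    show N.mkQ (F.map (σ i) _) = 0
    rw [Submodule.mkQ_apply, Submodule.Quotient.mk_eq_zero]
    erw [DerSch.stalkFunctor_map_germ]
    rw [GenLocus.app_eq_smul, AssPts.germ_smul', ← GenLocus.mres_sect (σ i) (le_top : U ≤ ⊤), AssPts.germ_mres]
    exact N.smul_mem _ (Submodule.subset_span ⟨i, rfl⟩)
  haveI : PreservesColimitsOfSize.{u, u} F := (Adjunction.ofIsLeftAdjoint F).leftAdjoint_preservesColimits
  haveI : Epi (F.map p) := F.map_epi p
  have hzero : F.map p ≫ q = 0 := by
    refine (isColimitOfPreserves F (coproductIsCoproduct fun _ : ι => Coh.structureModule X)).hom_ext fun ⟨i⟩ => ?_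
    rw [comp_zero, ← Category.assoc]
    show (F.map (SheafOfModules.ιFree i) ≫ F.map p) ≫ q = 0
    rw [← F.map_comp]
    exact hσ i
  have hq : q = 0 := (cancel_epi (F.map p)).1 (by rw [hzero, comp_zero])
  rw [eq_top_iff]
  intro z _
  have := LinearMap.congr_fun (congrArg ModuleCat.Hom.hom hq) z
  exact (Submodule.Quotient.mk_eq_zero N).1 this

/-- A globally generated invertible module has a section generating at any given point. -/
theorem exists_mem_genLocus {L : X.Modules} (hL : PicF.IsInvertible L) (h : Curv2.IsGloballyGenerated L) (x : X) :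
    ∃ s : Coh.structureModule X ⟶ L, x ∈ CohB1.genLocus L s := by
  obtain ⟨ι, s, hs⟩ := exists_generatedBy h
  obtain ⟨i, hi⟩ := Opens.mem_iSup.1 (ProjUPLib.le_iSup_genLocus_of_generatedBy hL s hs (trivial : x ∈ (⊤ : X.Opens)))
  exact ⟨_, hi⟩

/-- A tensor product of finitely many globally generated invertible modules. -/
theorem exists_tensor (l : List (Σ L : X.Modules, Coh.structureModule X ⟶ L))
    (hl : ∀ e ∈ l, PicF.IsInvertible e.1 ∧ Curv2.IsGloballyGenerated e.1) :
    ∃ M : X.Modules, PicF.IsInvertible M ∧ (∀ x, ∃ σ : Coh.structureModule X ⟶ M, x ∈ CohB1.genLocus M σ) ∧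
      ∀ e ∈ l, IsAffineOpen (CohB1.genLocus e.1 e.2) → ∀ x ∈ CohB1.genLocus e.1 e.2,
        ∃ σ : Coh.structureModule X ⟶ M, x ∈ CohB1.genLocus M σ ∧ IsAffineOpen (CohB1.genLocus M σ) := by
  induction l with
  | nil =>
    exact ⟨Coh.structureModule X, PicLoc.isInvertible_structureModule X,
      fun x => ⟨𝟙 _, by rw [GenLocus.genLocus_id]; trivial⟩, fun e he => absurd he (List.not_mem_nil)⟩
  | cons e l ih =>
    obtain ⟨L, s⟩ := e
    obtain ⟨M, hM, hMg, hMl⟩ := ih fun e he => hl e (List.mem_cons_of_mem _ he)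
    obtain ⟨hL, hLg⟩ := hl ⟨L, s⟩ List.mem_cons_self
    refine ⟨CohB1.tensorMod L M, TensorMod.isInvertible_tensorMod hL hM, fun x => ?_, fun e he ha x hx => ?_⟩
    · obtain ⟨τ, hτ⟩ := exists_mem_genLocus hL hLg x
      obtain ⟨σ, hσ⟩ := hMg x
      exact ⟨SecTwist.tmulHom τ σ, by rw [genLocus_tmulHom hL hM]; exact ⟨hτ, hσ⟩⟩
    · rcases List.mem_cons.1 he with rfl | he
      · obtain ⟨σ, hσ⟩ := hMg x
        refine ⟨SecTwist.tmulHom s σ, ?_, ?_⟩
        · rw [genLocus_tmulHom hL hM]; exact ⟨hx, hσ⟩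
        · rw [genLocus_tmulHom hL hM, inf_comm]
          exact isAffineOpen_genLocus_inf hM σ ha
      · obtain ⟨σ, hσ, hσa⟩ := hMl e he ha x hx
        obtain ⟨τ, hτ⟩ := exists_mem_genLocus hL hLg x
        refine ⟨SecTwist.tmulHom τ σ, ?_, ?_⟩
        · rw [genLocus_tmulHom hL hM]; exact ⟨hτ, hσ⟩
        · rw [genLocus_tmulHom hL hM]
          exact isAffineOpen_genLocus_inf hL τ hσa

/-- Enough globally generated invertible modules with affine loci give an ample module. -/
theorem exists_ample [CompactSpace X]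
    (h : ∀ x : X, ∃ (L : X.Modules) (s : Coh.structureModule X ⟶ L), PicF.IsInvertible L ∧ Curv2.IsGloballyGenerated L ∧
      x ∈ CohB1.genLocus L s ∧ IsAffineOpen (CohB1.genLocus L s)) :
    ∃ M : X.Modules, CohB1.IsAmple M := by
  classical
  choose L s hL hG hx ha using h
  obtain ⟨t, ht⟩ := isCompact_univ.elim_finite_subcover (fun x => (CohB1.genLocus (L x) (s x) : Set X))
    (fun x => (CohB1.genLocus (L x) (s x)).2) fun x _ => Set.mem_iUnion.2 ⟨x, hx x⟩
  obtain ⟨M, hM, -, hMl⟩ := exists_tensor (t.toList.map fun x => (⟨L x, s x⟩ : Σ L : X.Modules, Coh.structureModule X ⟶ L))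
    (by
      intro e he
      obtain ⟨x, -, rfl⟩ := List.mem_map.1 he
      exact ⟨hL x, hG x⟩)
  refine ⟨M, hM, inferInstance, fun x => ?_⟩
  obtain ⟨y, hy, hxy⟩ := Set.mem_iUnion₂.1 (ht (Set.mem_univ x))
  obtain ⟨σ, hσ, hσa⟩ := hMl ⟨L y, s y⟩ (List.mem_map.2 ⟨y, Finset.mem_toList.2 hy, rfl⟩) (ha y) x hxy
  refine ⟨0, SecTwist.powHom σ 1, ?_⟩
  rw [genLocus_powHom hM σ 0]
  exact ⟨hσ, hσa⟩

end Groth.Agent.AmpleGG
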